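import Cfsg.Agent.Lib.TCX.Def

set_option autoImplicit false
set_option maxRecDepth 100000
set_option Elab.async false

namespace Cfsg.Agent.TCX.RM11e

noncomputable def l0t0 : Bt Nat := (.node (.leaf (nat_lit 0x1005c7000000000000000000000000000f04468000000000100546c000000000000000000000000000000000800000001304c300800000001404c3400000000000000000000000001404c2c000000000000000000000000000000000000000000000000000000000130543c08000000012044400000000001600c5400000000000000000800000001201c5c00000000013044500000000001600c44000000000000000008000000015044080000000001501c040800000001504c000000000001501c100800000001600c140800000001600c240000000001600c200800000001600c1c00000000000000000)) (.leaf (nat_lit 0)))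
noncomputable def l0t1 : Bt Nat := (.node (.leaf (nat_lit 0x15044380000000001105c5800000000000000000800000001404c640000000001301c6800000000000000000000000001600c6c000000000000000000000000000000000800000001600c600000000000000000000000000000000008000000012054400000000001101c440800000001600c480000000001600c7400000000000000000000000001501c2c0800000001600c300000000001504410080000000130541c08000000014054180800000001201c240000000001301c200000000001600c4c0000000001600c280800000001504c000000000001501c040800000001600c080000000001401c0c0)) (.leaf (nat_lit 0)))
noncomputable def l0t2 : Bt Nat := (.node (.leaf (nat_lit 0xd04468000000000150446c0000000001600c700000000000e054740800000000c01c4800000000000000000800000001501c24080000000150441c0800000001205440000000000000000000000000000000000800000000d04c640000000001600c500000000001101c5400000000015044380000000001600c3c0000000001501c040000000001404c0c00000000015044280000000001600c2c0800000001600c5c08000000006914400000000001600c5800000000000000000800000001600c1808000000015044000000000000000000000000000078c4280800000001600c340000000001600c100)) (.leaf (nat_lit 0)))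
noncomputable def l0t3 : Bt Nat := (.node (.leaf (nat_lit 0x1105c50000000000150442c0800000001501c30080000000120645c00000000000000000000000000000000000000000000000000000000000000000000000001105c440000000001205c28000000000100444c0800000001501c14000000000140541000000000000000000000000001600c380800000001600c640000000001600c6800000000000000000000000001404c200000000000000000000000000000000000000000000000000800000001600c40000000000130443c08000000015044080000000001600c0c08000000015044000000000001600c040)) (.leaf (nat_lit 0)))
noncomputable def l0t4 : Bt Nat := (.node (.leaf (nat_lit 0x800000000b04c300800000000a9545c0000000000994c581000000000a9540c2000000000000000000000000000000000000000000000000800000000894c24200000000098dc500000000000794420380000000078f4143000000000000000080000000088e4400000000000000000000000000098dc282000000000a9542c100000000000000000000000000000000800000000893c083000000000388c0410000000000000000800000000504414000000000000000000000000000000000000000000000000080000000048ac080800000000188c0030000000000000000800000000288c0020000000000000000)) (.leaf (nat_lit 0)))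
noncomputable def l0t5 : Bt Nat := (.node (.leaf (nat_lit 0x24381000000000003c6c200000000000345c100000000000242c3000000000002c303000000000002c501000000000002c242000000000001c1c200000000000243800000000000024442000000000001c141000000000002c3c1000000000001c280000000000001c1430000000000024382000000000001c343000000000001404200000000000242c1000000000001c282000000000001410100000000000240c0000000000001c0800000000000014040000000000001c1420000000000014100000000000000c002000000000001c0830000000000014041000000000000c0030000000000000000)) (.leaf (nat_lit 0)))

end Cfsg.Agent.TCX.RM11e
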